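import Cfsg.Agent.H950.E8X.EpsD
import Cfsg.Agent.H179.SLC.Iface
import Cfsg.Agent.H875.L64.Table

/-!
# S5915: **EPS**, exact form (helper950)
-/

set_option autoImplicit false
set_option linter.unusedVariables false

namespace Cfsg.Agent.H950.E8X

open Matrix Cfsg.Agent.H943.SL2Rel Cfsg.Agent.H943.RepAdd Cfsg.Agent.H943.SL2Mod Cfsg.Agent.H939.L64

variable {k : Type} [Field k] [IsAlgClosed k] [CharP k 2] {F : Type} [Field F] [Fintype F] [DecidableEq F] {ι : F →+* k}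
  {lam : Fˣ} {y : SpecialLinearGroup (Fin 2) F} {ζ : k}

theorem rf (D : Dat ι lam y ζ) : RF ι lam y ζ where
  r1 ρ hI := Cfsg.Agent.H179.SLC.R1 D ρ hI
  r2 ρ W hW _ hb h := Cfsg.Agent.H179.SLC.R2 D ρ W hW hb h

theorem uniq : Uniq := fun m m' h65 h63 => Cfsg.Agent.H875.L64.R3b m m' h65 h63

/-- **EPS** -/
theorem EPS (D : Dat ι lam y ζ) {V : Type} [AddCommGroup V] [Module k V] [FiniteDimensional k V]
    (ρ : Representation k (SpecialLinearGroup (Fin 2) F) V) (B : V →ₗ[k] V →ₗ[k] k)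
    (hB : ∀ g v w, B (ρ g v) (ρ g w) = B v w) (hnd : ∀ v, (∀ w, B v w = 0) → v = 0) (hsym : ∀ v w, B v w = B w v)
    (br : V →ₗ[k] V →ₗ[k] V) (hbr : ∀ g v w, ρ g (br v w) = br (ρ g v) (ρ g w)) (hm : SpecM ι ρ lam y ζ (pat 3)) :
    ∃ A : Submodule k V, A ≠ ⊥ ∧ A ≠ ⊤ ∧
      (∀ (n : V ≃ₗ[k] V), (∃ τ : SpecialLinearGroup (Fin 2) F ≃* SpecialLinearGroup (Fin 2) F, ∀ g v, n (ρ g v) = ρ (τ g) (n v)) →
        ∀ v ∈ A, n v ∈ A) ∧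
      (∀ v, ρ y v = v → v ∈ A) ∧ (∀ a ∈ A, ∀ b ∈ A, br a b ∈ A) ∧ (∀ a ∈ A, (∀ b ∈ A, B a b = 0) → a = 0) := by
  haveI := Cfsg.Agent.H179.SLC.charF ι
  exact EPS' D (rf D) uniq ρ B hB hnd br hbr hm

end Cfsg.Agent.H950.E8X
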